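import Groth.Agent.FlatTwist.Colim
import Groth.Agent.CohPullLib.NbhdRank
import Groth.Agent.CohPullLib.BC0
import Groth.Agent.NormX.RelVanishing
import Groth.Agent.AmpleVan.CounitEpi
import Groth.Agent.ConsPropLib.FibreLocFree
import Groth.Agent.QCoh.FlatOver
import Groth.Agent.KZ.LFRes
import Groth.Agent.KFlatLib.Perfect.Tensor

/-!
# Flatness and direct images of large twists
-/

set_option backward.isDefEq.respectTransparency false
set_option backward.isDefEq.respectTransparency.types false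
set_option linter.style.haveILetI false

universe u

open CategoryTheory CategoryTheory.Limits AlgebraicGeometry TopologicalSpace Opposite

attribute [local instance] HasDerivedCategory.standard

namespace Groth.Agent.FlatTwist

open Groth.Agent Groth.Agent.H23.PicMul

variable {X S : Scheme.{u}} (f : X ⟶ S)

theorem isFlatOver_tensor {F M : X.Modules} (hF : Coh.IsQCoh F) (hfl : FlatMod.IsFlatOver f F)
    (hM : PicF.IsInvertible M) : FlatMod.IsFlatOver f (CohB1.tensorMod F M) := by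
  intro x
  obtain ⟨_, ⟨V, hV, rfl⟩, hxV, -⟩ :=
    S.isBasis_affineOpens.exists_subset_of_mem_open (Set.mem_univ (f.base x)) isOpen_univ
  obtain ⟨U₀, hxU₀, e₀, he₀⟩ := InvX.exists_frame hM x
  obtain ⟨_, ⟨U, hU, rfl⟩, hxU, hle⟩ :=
    X.isBasis_affineOpens.exists_subset_of_mem_open
      (show x ∈ U₀ ⊓ f ⁻¹ᵁ V from ⟨hxU₀, hxV⟩) (U₀ ⊓ f ⁻¹ᵁ V).2
  have h1 : U ≤ U₀ := le_trans hle inf_le_left
  have h2 : U ≤ f ⁻¹ᵁ V := le_trans hle inf_le_right
  refine (QCoh.flat_appLE_iff f (KFlatLib.isQCoh_tensor hF (ProjUPX.isQCoh_of_isInvertible hM)) hU hV h2).1 ?_ x hxU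
  letI : Module Γ(S, V) Γ(F, U) := Module.compHom _ (f.appLE V U h2).hom
  letI : Module Γ(S, V) Γ(CohB1.tensorMod F M, U) := Module.compHom _ (f.appLE V U h2).hom
  haveI : Module.Flat Γ(S, V) Γ(F, U) := (QCoh.flat_appLE_iff f hF hU hV h2).2 fun y _ => hfl y
  let l : Γ(F, U) →ₗ[Γ(S, V)] Γ(CohB1.tensorMod F M, U) :=
    { toFun := fun a => InvX.tmul a (AModX.res M h1 e₀)
      map_add' := fun a b => tmul_add_left a b _
      map_smul' := fun c a => InvX.tmul_smul_left (f.appLE V U h2 c) a _ }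
  have e := (LinearEquiv.ofBijective l (bijective_tmul_frame he₀ h1)).symm
  exact @Module.Flat.of_linearEquiv _ _ _ _ (_) _ (_) (_) this e

theorem flat_appLE_of_eq {M : X.Modules} {V : S.Opens} {W : X.Opens} (hW : W = f ⁻¹ᵁ V)
    [Module.Flat Γ(S, V) Γ((Scheme.Modules.pushforward f).obj M, V)] :
    letI : Module Γ(S, V) Γ(M, W) := Module.compHom _ (f.appLE V W hW.le).hom
    Module.Flat Γ(S, V) Γ(M, W) := by
  subst hW
  letI : Module Γ(S, V) Γ(M, f ⁻¹ᵁ V) := Module.compHom _ (f.appLE V (f ⁻¹ᵁ V) le_rfl).hom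
  exact Module.Flat.of_linearEquiv
    ({ AddEquiv.refl Γ(M, f ⁻¹ᵁ V) with
        map_smul' := fun c m => by
          show f.appLE V (f ⁻¹ᵁ V) le_rfl c • m = f.app V c • m
          rw [f.app_eq_appLE] } : Γ(M, f ⁻¹ᵁ V) ≃ₗ[Γ(S, V)] Γ((Scheme.Modules.pushforward f).obj M, V))

theorem flat_of_iso {Z : Scheme.{u}} {A : Type u} [CommRing A] {U : Z.Opens} (φ : A →+* Γ(Z, U)) {P Q : Z.Modules}
    (e : P ≅ Q) (h : letI : Module A Γ(Q, U) := Module.compHom _ φ; Module.Flat A Γ(Q, U)) :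
    letI : Module A Γ(P, U) := Module.compHom _ φ
    Module.Flat A Γ(P, U) := by
  letI : Module A Γ(Q, U) := Module.compHom _ φ
  letI : Module A Γ(P, U) := Module.compHom _ φ
  haveI : Module.Flat A Γ(Q, U) := h
  let l : Γ(P, U) ≃+ Γ(Q, U) :=
    { toFun := e.hom.app U
      invFun := e.inv.app U
      left_inv := fun x => congr(($(e.hom_inv_id)).app U x)
      right_inv := fun x => congr(($(e.inv_hom_id)).app U x)
      map_add' := fun x y => map_add _ x y }
  exact Module.Flat.of_linearEquiv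
    ({ l with map_smul' := fun c m => Scheme.Modules.Hom.app_smul _ _ _ } : Γ(P, U) ≃ₗ[A] Γ(Q, U))

theorem flat_restrict_iff {Z : X.Opens} {M : X.Modules} {U : (Z : Scheme.{u}).Opens} {A : Type u} [CommRing A]
    (φ : A →+* Γ(X, Z.ι ''ᵁ U)) :
    (letI : Module A Γ(M.restrict Z.ι, U) := Module.compHom _ (show A →+* Γ((Z : Scheme.{u}), U) from φ); Module.Flat A Γ(M.restrict Z.ι, U)) ↔
    (letI : Module A Γ(M, Z.ι ''ᵁ U) := Module.compHom _ φ; Module.Flat A Γ(M, Z.ι ''ᵁ U)) := by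
  letI i1 : Module A Γ(M.restrict Z.ι, U) := Module.compHom _ (show A →+* Γ((Z : Scheme.{u}), U) from φ)
  letI i2 : Module A Γ(M, Z.ι ''ᵁ U) := Module.compHom _ φ
  let l : Γ(M.restrict Z.ι, U) ≃ₗ[A] Γ(M, Z.ι ''ᵁ U) :=
    { AddEquiv.refl Γ(M, Z.ι ''ᵁ U) with
      map_smul' := fun c m => by
        refine Eq.trans (b := (Z.ι.appIso U).inv.hom (φ c) • (show Γ(M, Z.ι ''ᵁ U) from m)) rfl ?_
        rw [Scheme.Opens.ι_appIso]
        rfl }
  exact ⟨fun h => Module.Flat.of_linearEquiv l.symm, fun h => Module.Flat.of_linearEquiv l⟩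

/-- Flatness from finite locally free direct images of large twists. -/
theorem isFlatOver_of_twists [QuasiCompact f] [QuasiSeparated f] {L : X.Modules} (hamp : RelAmple.IsRelAmple f L)
    (hL : PicF.IsInvertible L) {F : X.Modules} (hF : Coh.IsQCoh F) (N : ℕ)
    (h : ∀ n, N ≤ n → FlatMod.IsFinLocFree ((Coh.push f).obj (CohB1.tensorMod F (CohB1.tensorPow L n)))) :
    FlatMod.IsFlatOver f F := by
  intro x
  obtain ⟨_, ⟨V, hV, rfl⟩, hxV, -⟩ :=
    S.isBasis_affineOpens.exists_subset_of_mem_open (Set.mem_univ (f.base x)) isOpen_univ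
  let Z : X.Opens := f ⁻¹ᵁ V
  haveI : CompactSpace Z.toScheme := isCompact_iff_compactSpace.1 (f.isCompact_preimage hV.isCompact)
  haveI : IsAffine (V : Scheme.{u}) := hV
  haveI : QuasiSeparatedSpace (f ⁻¹ᵁ V : Scheme.{u}) := quasiSeparatedSpace_of_quasiSeparated (f ∣_ V)
  have hLZ := AmpleX.isInvertible_restrict Z.ι hL
  obtain ⟨-, -, hamp'⟩ := hamp.2 ⟨V, hV⟩
  obtain ⟨a, s, hxs, hs⟩ := hamp' ⟨x, hxV⟩
  let W : X.Opens := Z.ι ''ᵁ ⊤
  have hW : W = f ⁻¹ᵁ V := Z.ι_image_top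
  let φ : Γ(S, V) →+* Γ(Z.toScheme, ⊤) := (f.appLE V W hW.le).hom
  let La := CohB1.tensorPow (L.restrict Z.ι) (a + 1)
  have hflat : ∀ n k, N ≤ n →
      letI : Module Γ(S, V) Γ(CohB1.tensorMod (CohB1.tensorMod (F.restrict Z.ι) (CohB1.tensorPow La n))
        (CohB1.tensorPow La k), ⊤) := Module.compHom _ φ
      Module.Flat Γ(S, V) Γ(CohB1.tensorMod (CohB1.tensorMod (F.restrict Z.ι) (CohB1.tensorPow La n))
        (CohB1.tensorPow La k), ⊤) := by
    intro n k hn
    let m := (a + 1) * n + (a + 1) * k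
    obtain ⟨ψ⟩ : Nonempty (CohB1.tensorMod (CohB1.tensorMod (F.restrict Z.ι) (CohB1.tensorPow La n))
        (CohB1.tensorPow La k) ≅ (CohB1.tensorMod F (CohB1.tensorPow L m)).restrict Z.ι) := cl_eq_iff.1 (by
      rw [← AmpleVan.CounitEpi.cl_restrict_twist]
      simp only [La, m, cl_tensor, cl_tensorPow]
      rw [← pow_mul, ← pow_mul, mul_assoc, ← pow_add])
    have hm : N ≤ m := hn.trans (le_trans (Nat.le_mul_of_pos_left n (Nat.succ_pos a)) (Nat.le_add_right _ _))
    have hq : Coh.IsQCoh (CohB1.tensorMod F (CohB1.tensorPow L m)) := KFlatLib.isQCoh_tensor hF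
      (ProjUPX.isQCoh_of_isInvertible (InvX.isInvertible_tensorPow hL m))
    haveI : Module.Flat Γ(S, V) Γ((Scheme.Modules.pushforward f).obj (CohB1.tensorMod F (CohB1.tensorPow L m)), V) :=
      CohPullLib.flat_sections_of_isFinLocFree (V₀ := ⊤) (ConsPropLib.isFinLocFree_restrict _ (h m hm))
        (QCoh.isQCoh_pushforward f hq) hV le_top
    exact flat_of_iso φ ψ ((flat_restrict_iff (f.appLE V W hW.le).hom).2
      (flat_appLE_of_eq (M := CohB1.tensorMod F (CohB1.tensorPow L m)) f hW))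
  have key := flat_genLocus φ (QCoh.isQCoh_restrict Z.ι hF) (InvX.isInvertible_tensorPow hLZ (a + 1)) s N hflat
  let U : X.Opens := Z.ι ''ᵁ CohB1.genLocus La s
  have hUW : U ≤ W := Z.ι.image_mono le_top
  refine (QCoh.flat_appLE_iff f hF (hs.image_of_isOpenImmersion Z.ι) hV (hUW.trans hW.le)).1 ?_ x
    ⟨_, hxs, rfl⟩
  have hact : (f.appLE V U (hUW.trans hW.le)).hom =
      (AModX.resR (le_top : CohB1.genLocus La s ≤ ⊤)).comp φ := by
    rw [← Scheme.Hom.appLE_map f hW.le (homOfLE hUW).op]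
    rfl
  rw [hact]
  exact (flat_restrict_iff (A := Γ(S, V)) ((AModX.resR (le_top : CohB1.genLocus La s ≤ ⊤)).comp φ)).1 key

/-- Large twists of a flat coherent sheaf have finite locally free direct images. -/
theorem exists_isFinLocFree_push_twists [IsNoetherian S] [IsProper f] [HasInjectiveResolutions X.Modules]
    {L : X.Modules} (hamp : RelAmple.IsRelAmple f L) (hL : PicF.IsInvertible L) {F : X.Modules}
    (hF : Coh.IsCoh F) (hfl : FlatMod.IsFlatOver f F) :
    ∃ N : ℕ, ∀ n, N ≤ n →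
      FlatMod.IsFinLocFree ((Coh.push f).obj (CohB1.tensorMod F (CohB1.tensorPow L n))) := by
  haveI : IsLocallyNoetherian X := LocallyOfFiniteType.isLocallyNoetherian f
  obtain ⟨N, hN⟩ := NormX.exists_vanishing_Rpush f hamp.2 hL hF
  refine ⟨N, fun n hn => ?_⟩
  have hc : Coh.IsCoh (CohB1.tensorMod F (CohB1.tensorPow L n)) :=
    AmpleVan.isCoh_tensor hF (AmpleVan.isCoh_invertible (InvX.isInvertible_tensorPow hL n))
  refine CohPullLib.isFinLocFree_push_of_exchAt hc.1 ?_ ?_ fun y => ?_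
  · exact KZ.LFRes.isFP_of_isCoh hc
  · exact isFlatOver_tensor f hF.1 hfl (InvX.isInvertible_tensorPow hL n)
  · refine CohPullLib.exchAt_of_isFinLocFree_above hc.1 (KZ.LFRes.isFP_of_isCoh hc)
      (isFlatOver_tensor f hF.1 hfl (InvX.isInvertible_tensorPow hL n)) (m := 0) (fun i hi => ?_) y 0 le_rfl
    obtain ⟨q, rfl⟩ := Nat.exists_eq_add_of_le' hi
    exact KFlatLib.isFinLocFree_of_isZero (hN n hn q)

end Groth.Agent.FlatTwist
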