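import Groth.Agent.InvX.Tensor

/-!
# Tensoring with a frame is bijective on sections
-/

set_option backward.isDefEq.respectTransparency false
set_option backward.isDefEq.respectTransparency.types false

universe u

open CategoryTheory CategoryTheory.Limits AlgebraicGeometry TopologicalSpace Opposite MonoidalCategory
open TensorProduct

namespace Groth.Agent.FlatTwist

open Groth.Agent

variable {X : Scheme.{u}} {M N : X.Modules}

theorem tmul_add_left {U : X.Opens} (a a' : Γ(M, U)) (b : Γ(N, U)) :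
    InvX.tmul (a + a') b = InvX.tmul a b + InvX.tmul a' b :=
  (congrArg _ (KFlatLib.tm_add_left a a' b)).trans (map_add _ _ _)

theorem bijective_tmul_frame {U : X.Opens} {e : Γ(N, U)} (he : InvX.IsFrame e) {W : X.Opens} (h : W ≤ U) :
    Function.Bijective fun a : Γ(M, W) => InvX.tmul a (AModX.res N h e) := by
  let P := CohB1.toPMod M
  let Q := CohB1.toPMod N
  have hstalk : ∀ (x : X) (hx : x ∈ U), ∃ Ψ : KFlatLib.stalkMod x P →+ (CohB1.tensorMod M N).presheaf.stalk x,
      Function.Bijective Ψ ∧ ∀ (V : X.Opens) (hV : V ≤ U) (hxV : x ∈ V) (a : Γ(M, V)),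
        Ψ (KFlatLib.germP P V hxV a) =
          (CohB1.tensorMod M N).presheaf.germ V x hxV (InvX.tmul a (AModX.res N hV e)) := by
    intro x hx
    let gb : KFlatLib.stalkMod x Q := KFlatLib.germP Q U hx e
    let eb := LinearEquiv.ofBijective (LinearMap.toSpanSingleton (X.presheaf.stalk x) (KFlatLib.stalkMod x Q) gb)
      (he.germ_bijective hx)
    let T := ((TensorProduct.rid (X.presheaf.stalk x) (KFlatLib.stalkMod x P)).symm.trans
      (TensorProduct.congr (LinearEquiv.refl _ _) eb)).trans (KFlatLib.tensorStalkEquiv P Q)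
    haveI hi := KFlatLib.isIso_stalk_unitShP (x := x) (P ⊗ Q)
    let u := ((KFlatLib.stalkP x).map (KFlatLib.unitShP (P ⊗ Q)))
    have hu : Function.Bijective u.hom := ConcreteCategory.bijective_of_isIso u
    refine ⟨(AddMonoidHom.mk' (fun c => u.hom c) fun a b => map_add _ a b).comp T.toAddEquiv.toAddMonoidHom,
      hu.comp T.bijective, fun V hV hxV a => ?_⟩
    have hgb : KFlatLib.germP Q V hxV (AModX.res N hV e) = gb :=
      KFlatLib.germP_res (homOfLE hV) hxV e
    show u.hom (T _) = _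
    have hT : T (KFlatLib.germP P V hxV a) = KFlatLib.germP (P ⊗ Q) V hxV (KFlatLib.tm a (AModX.res N hV e)) := by
      show KFlatLib.tensorStalkEquiv P Q (TensorProduct.congr (LinearEquiv.refl _ _) eb
        ((TensorProduct.rid (X.presheaf.stalk x) (KFlatLib.stalkMod x P)).symm _)) = _
      rw [TensorProduct.rid_symm_apply, TensorProduct.congr_tmul]
      show KFlatLib.tensorStalkEquiv P Q (_ ⊗ₜ ((1 : X.presheaf.stalk x) • gb)) = _
      rw [one_smul, ← hgb]
      exact KFlatLib.ofTensor_germ V hxV a _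
    rw [hT]
    exact KFlatLib.stalkModMap_germ _ V hxV _
  have hinj : ∀ (V : X.Opens) (hV : V ≤ U) (a b : Γ(M, V)),
      InvX.tmul a (AModX.res N hV e) = InvX.tmul b (AModX.res N hV e) → a = b := fun V hV a b hab =>
    TopCat.Presheaf.section_ext ⟨M.presheaf, M.isSheaf⟩ _ _ _ fun x hx => by
      obtain ⟨Ψ, hΨ, hg⟩ := hstalk x (hV hx)
      apply hΨ.1
      exact (hg V hV hx a).trans ((congrArg _ hab).trans (hg V hV hx b).symm)
  refine ⟨hinj W h, fun z => ?_⟩
  have hloc : ∀ p : W, ∃ (W' : X.Opens) (hW : W' ≤ W) (_ : p.1 ∈ W') (a : Γ(M, W')),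
      InvX.tmul a (AModX.res N (hW.trans h) e) = AModX.res _ hW z := fun p => by
    obtain ⟨Ψ, hΨ, hg⟩ := hstalk p.1 (h p.2)
    obtain ⟨c, hc⟩ := hΨ.2 ((CohB1.tensorMod M N).presheaf.germ W p.1 p.2 z)
    obtain ⟨W₁, h₁, a, rfl⟩ := TopCat.Presheaf.exists_germ_eq (C := AddCommGrpCat.{u}) P.presheaf (x := p.1) c
    have hxW : p.1 ∈ W₁ ⊓ W := ⟨h₁, p.2⟩
    have h2 := (hg _ (inf_le_right.trans h) hxW (AModX.res M (inf_le_left : W₁ ⊓ W ≤ W₁) a)).symm.trans
      ((congrArg Ψ (KFlatLib.germP_res (homOfLE inf_le_left) hxW a)).trans hc)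
    rw [← InvX.germ_res' (inf_le_right : W₁ ⊓ W ≤ W) hxW z] at h2
    obtain ⟨W', hW', i, j, hij⟩ := TopCat.Presheaf.germ_eq (C := AddCommGrpCat.{u})
      (CohB1.tensorMod M N).presheaf p.1 hxW hxW _ _ h2
    change AModX.res (CohB1.tensorMod M N) i.le _ = AModX.res (CohB1.tensorMod M N) j.le _ at hij
    rw [InvX.res_tmul, AModX.res_res, AModX.res_res, AModX.res_res] at hij
    exact ⟨W', j.le.trans inf_le_right, hW', _, hij⟩
  choose W' hW hpW a ha using hloc
  obtain ⟨A, hA, -⟩ := AModX.existsUnique_glue (M := M) (V := W) W' hW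
    (fun p hp => ⟨⟨p, hp⟩, hpW ⟨p, hp⟩⟩) a fun p q => by
      apply hinj _ (inf_le_left.trans ((hW p).trans h))
      have h1 := congrArg (AModX.res _ (inf_le_left : W' p ⊓ W' q ≤ W' p)) (ha p)
      have h2 := congrArg (AModX.res _ (inf_le_right : W' p ⊓ W' q ≤ W' q)) (ha q)
      rw [InvX.res_tmul, AModX.res_res, AModX.res_res] at h1 h2
      exact h1.trans h2.symm
  refine ⟨A, AModX.eq_of_locally _ _ fun p hp => ⟨W' ⟨p, hp⟩, hW _, hpW _, ?_⟩⟩
  show AModX.res _ _ (InvX.tmul _ _) = _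
  rw [InvX.res_tmul, hA, AModX.res_res, ha]

end Groth.Agent.FlatTwist
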