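import Groth.Agent.FlatTwist.Frame
import Groth.Agent.AmpleX.ExtendQS
import Groth.Agent.AmpleX.Generated
import Mathlib.RingTheory.Flat.EquationalCriterion

/-!
# Flatness on the locus of a section from flatness of global sections of large twists
-/

set_option backward.isDefEq.respectTransparency false
set_option backward.isDefEq.respectTransparency.types false
set_option linter.style.haveILetI false

universe u

open CategoryTheory CategoryTheory.Limits AlgebraicGeometry TopologicalSpace Opposite

namespace Groth.Agent.FlatTwist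

open Groth.Agent Groth.Agent.AModX Groth.Agent.AmpleX

theorem flat_genLocus {Z : Scheme.{u}} [CompactSpace Z] [QuasiSeparatedSpace Z] {A : Type u} [CommRing A]
    (φ : A →+* Γ(Z, ⊤)) {M L : Z.Modules} (hM : Coh.IsQCoh M) (hL : PicF.IsInvertible L)
    (s : Coh.structureModule Z ⟶ L) (N : ℕ)
    (hflat : ∀ n k, N ≤ n →
      letI : Module A Γ(CohB1.tensorMod (CohB1.tensorMod M (CohB1.tensorPow L n)) (CohB1.tensorPow L k), ⊤) :=
        Module.compHom _ φ
      Module.Flat A Γ(CohB1.tensorMod (CohB1.tensorMod M (CohB1.tensorPow L n)) (CohB1.tensorPow L k), ⊤)) :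
    letI : Module A Γ(M, CohB1.genLocus L s) :=
      Module.compHom _ ((AModX.resR (le_top : CohB1.genLocus L s ≤ ⊤)).comp φ)
    Module.Flat A Γ(M, CohB1.genLocus L s) := by
  let G := CohB1.genLocus L s
  let ψ : A →+* Γ(Z, G) := (AModX.resR (le_top : G ≤ ⊤)).comp φ
  letI : Module A Γ(M, G) := Module.compHom _ ψ
  refine Module.Flat.of_forall_isTrivialRelation fun {l} f x hfx => ?_
  classical
  have he := AmpleX.res_genLocus_frame s
  let e := AModX.res L (le_top : G ≤ ⊤) (InvX.one s)
  -- lift the sections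
  have hext := fun i => exists_extend' hM hL s (x i)
  choose n₀ hn₀ using hext
  let n := N + Finset.univ.sup n₀
  choose T hT using fun i => hn₀ i n ((Finset.le_sup (Finset.mem_univ i)).trans (Nat.le_add_left _ _))
  let M' := CohB1.tensorMod M (CohB1.tensorPow L n)
  have hM' : Coh.IsQCoh M' := KFlatLib.isQCoh_tensor hM
    (ProjUPX.isQCoh_of_isInvertible (InvX.isInvertible_tensorPow hL n))
  have hbn : Function.Bijective fun a : Γ(M, G) => InvX.tmul a (powElt e n) := by
    have h := bijective_tmul_frame (M := M) (isFrame_powElt he n) (le_refl G)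
    have h2 : (fun a : Γ(M, G) => InvX.tmul a (AModX.res _ (le_refl G) (powElt e n))) =
        fun a : Γ(M, G) => InvX.tmul a (powElt e n) := by funext a; rw [AModX.res_self]
    exact h2 ▸ h
  have hlin : ∀ (g : Fin l → Γ(Z, ⊤)) (y : Fin l → Γ(M, G)) (S : Finset (Fin l)),
      InvX.tmul (∑ i ∈ S, AModX.resR (le_top : G ≤ ⊤) (g i) • y i) (powElt e n) =
        ∑ i ∈ S, AModX.resR (le_top : G ≤ ⊤) (g i) • InvX.tmul (y i) (powElt e n) := fun g y S => by
    refine (map_sum (AddMonoidHom.mk' (fun a => InvX.tmul a (powElt e n)) fun a b =>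
      tmul_add_left a b _) _ S).trans (Finset.sum_congr rfl fun i _ => InvX.tmul_smul_left _ _ _)
  have hzero : AModX.res M' (le_top : G ≤ ⊤) (∑ i, φ (f i) • T i) = 0 := by
    rw [map_sum]
    refine (Finset.sum_congr rfl fun i _ => (AModX.res_smul _ _ _).trans (congrArg (_ • ·) (hT i))).trans ?_
    rw [← hlin (fun i => φ (f i)) x Finset.univ]
    have h0 : ∑ i, AModX.resR (le_top : G ≤ ⊤) (φ (f i)) • x i = 0 := hfx
    rw [h0]
    exact (congrArg (fun a => InvX.tmul a (powElt e n)) (zero_smul Γ(Z, G) (0 : Γ(M, G))).symm).trans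
      ((InvX.tmul_smul_left _ _ _).trans (zero_smul _ _))
  obtain ⟨k, hk⟩ := exists_killed hM' hL s _ hzero
  let M'' := CohB1.tensorMod M' (CohB1.tensorPow L k)
  letI : Module A Γ(M'', ⊤) := Module.compHom _ φ
  haveI : Module.Flat A Γ(M'', ⊤) := hflat n k (Nat.le_add_right _ _)
  let p := powElt (InvX.one s) k
  have hrel : ∑ i, f i • (InvX.tmul (T i) p : Γ(M'', ⊤)) = 0 := by
    show ∑ i, φ (f i) • (InvX.tmul (T i) p : Γ(M'', ⊤)) = 0
    refine Eq.trans ?_ (hk k le_rfl)
    refine ((map_sum (AddMonoidHom.mk' (fun a => InvX.tmul a p) fun a b => tmul_add_left a b _) _ _).trans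
      (Finset.sum_congr rfl fun i _ => InvX.tmul_smul_left _ _ _)).symm
  obtain ⟨m, a, y, hy, ha⟩ := Module.Flat.isTrivialRelation_of_sum_smul_eq_zero hrel
  -- go down to the locus
  have hbk : Function.Bijective fun a : Γ(M', G) => InvX.tmul a (powElt e k) := by
    have h := bijective_tmul_frame (M := M') (isFrame_powElt he k) (le_refl G)
    have h2 : (fun a : Γ(M', G) => InvX.tmul a (AModX.res _ (le_refl G) (powElt e k))) =
        fun a : Γ(M', G) => InvX.tmul a (powElt e k) := by funext a; rw [AModX.res_self]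
    exact h2 ▸ h
  let ρ : Γ(M, G) →+ Γ(M'', G) := AddMonoidHom.mk' (fun v => InvX.tmul (InvX.tmul v (powElt e n)) (powElt e k))
    fun v w => (congrArg (fun z => InvX.tmul z (powElt e k)) (tmul_add_left v w _)).trans (tmul_add_left _ _ _)
  have hρ : Function.Bijective ρ := hbk.comp hbn
  have hρs : ∀ (c : Γ(Z, G)) (v : Γ(M, G)), ρ (c • v) = c • ρ v := fun c v =>
    (congrArg (fun z => InvX.tmul z (powElt e k)) (InvX.tmul_smul_left c v _)).trans (InvX.tmul_smul_left _ _ _)
  choose z hz using fun j => hρ.2 (AModX.res M'' (le_top : G ≤ ⊤) (y j))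
  refine ⟨m, a, z, fun i => hρ.1 ?_, ha⟩
  show ρ (x i) = ρ (∑ j, ψ (a i j) • z j)
  rw [map_sum]
  simp only [hρs, hz]
  have := congrArg (AModX.res M'' (le_top : G ≤ ⊤)) (hy i)
  rw [map_sum, InvX.res_tmul, hT i, res_powElt] at this
  refine this.trans (Finset.sum_congr rfl fun j _ => ?_)
  exact AModX.res_smul _ (φ (a i j)) (y j)

end Groth.Agent.FlatTwist
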